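import Mathlib
import Cfsg.Agent.TcData.HNH.R2.Tab

set_option autoImplicit false
set_option Elab.async false
set_option maxRecDepth 100000
set_option linter.all false

namespace Cfsg.Agent.TcData.HNH.R2

open Cfsg.Spor Cfsg.Agent.Lib.TcFacts Cfsg.Agent.Lib.TcBits Cfsg.Agent.Lib.TcPres Cfsg.Spor.HN Cfsg.Agent.TcData.HNH

theorem b0 : Block F al 0 64 44 :=
  block_of_check (k := 6) rfl (by decide +kernel)

theorem b1 : Block F al 64 128 33 :=
  block_of_check (k := 6) rfl (by decide +kernel)

theorem b2 : Block F al 128 192 22 :=
  block_of_check (k := 6) rfl (by decide +kernel)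

theorem b3 : Block F al 192 256 33 :=
  block_of_check (k := 6) rfl (by decide +kernel)

theorem b4 : Block F al 256 320 13 :=
  block_of_check (k := 6) rfl (by decide +kernel)

theorem b5 : Block F al 320 384 11 :=
  block_of_check (k := 6) rfl (by decide +kernel)

theorem b6 : Block F al 384 448 10 :=
  block_of_check (k := 6) rfl (by decide +kernel)

theorem b7 : Block F al 448 512 19 :=
  block_of_check (k := 6) rfl (by decide +kernel)

theorem b8 : Block F al 512 576 26 :=
  block_of_check (k := 6) rfl (by decide +kernel)

theorem b9 : Block F al 576 640 19 :=
  block_of_check (k := 6) rfl (by decide +kernel)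

theorem b10 : Block F al 640 704 11 :=
  block_of_check (k := 6) rfl (by decide +kernel)

theorem b11 : Block F al 704 768 5 :=
  block_of_check (k := 6) rfl (by decide +kernel)

theorem b12 : Block F al 768 832 9 :=
  block_of_check (k := 6) rfl (by decide +kernel)

theorem b13 : Block F al 832 896 2 :=
  block_of_check (k := 6) rfl (by decide +kernel)

theorem b14 : Block F al 896 960 7 :=
  block_of_check (k := 6) rfl (by decide +kernel)

theorem b15 : Block F al 960 1024 0 :=
  block_of_check (k := 6) rfl (by decide +kernel)

theorem b16 : Block F al 1024 1088 8 :=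
  block_of_check (k := 6) rfl (by decide +kernel)

theorem b17 : Block F al 1088 1152 8 :=
  block_of_check (k := 6) rfl (by decide +kernel)

theorem b18 : Block F al 1152 1216 7 :=
  block_of_check (k := 6) rfl (by decide +kernel)

theorem b19 : Block F al 1216 1280 15 :=
  block_of_check (k := 6) rfl (by decide +kernel)

theorem b20 : Block F al 1280 1344 8 :=
  block_of_check (k := 6) rfl (by decide +kernel)

theorem b21 : Block F al 1344 1408 3 :=
  block_of_check (k := 6) rfl (by decide +kernel)

theorem b22 : Block F al 1408 1472 5 :=
  block_of_check (k := 6) rfl (by decide +kernel)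

theorem b23 : Block F al 1472 1536 8 :=
  block_of_check (k := 6) rfl (by decide +kernel)

theorem b24 : Block F al 1536 1600 1 :=
  block_of_check (k := 6) rfl (by decide +kernel)

theorem b25 : Block F al 1600 1664 3 :=
  block_of_check (k := 6) rfl (by decide +kernel)

theorem b26 : Block F al 1664 1728 1 :=
  block_of_check (k := 6) rfl (by decide +kernel)

theorem b27 : Block F al 1728 1792 3 :=
  block_of_check (k := 6) rfl (by decide +kernel)

theorem b28 : Block F al 1792 1856 3 :=
  block_of_check (k := 6) rfl (by decide +kernel)

theorem b29 : Block F al 1856 1920 0 :=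
  block_of_check (k := 6) rfl (by decide +kernel)

theorem b30 : Block F al 1920 1984 0 :=
  block_of_check (k := 6) rfl (by decide +kernel)

theorem b31 : Block F al 1984 2048 0 :=
  block_of_check (k := 6) rfl (by decide +kernel)

theorem b32 : Block F al 2048 2112 3 :=
  block_of_check (k := 6) rfl (by decide +kernel)

theorem b33 : Block F al 2112 2176 0 :=
  block_of_check (k := 6) rfl (by decide +kernel)

theorem b34 : Block F al 2176 2240 0 :=
  block_of_check (k := 6) rfl (by decide +kernel)

theorem b35 : Block F al 2240 2304 2 :=
  block_of_check (k := 6) rfl (by decide +kernel)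

theorem b36 : Block F al 2304 2368 0 :=
  block_of_check (k := 6) rfl (by decide +kernel)

theorem b37 : Block F al 2368 2432 1 :=
  block_of_check (k := 6) rfl (by decide +kernel)

theorem b38 : Block F al 2432 2496 0 :=
  block_of_check (k := 6) rfl (by decide +kernel)

theorem b39 : Block F al 2496 2560 0 :=
  block_of_check (k := 6) rfl (by decide +kernel)

theorem b40 : Block F al 2560 2624 2 :=
  block_of_check (k := 6) rfl (by decide +kernel)

theorem b41 : Block F al 2624 2688 3 :=
  block_of_check (k := 6) rfl (by decide +kernel)

theorem b42 : Block F al 2688 2752 0 :=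
  block_of_check (k := 6) rfl (by decide +kernel)

theorem b43 : Block F al 2752 2816 2 :=
  block_of_check (k := 6) rfl (by decide +kernel)

theorem b44 : Block F al 2816 2880 0 :=
  block_of_check (k := 6) rfl (by decide +kernel)

theorem b45 : Block F al 2880 2944 0 :=
  block_of_check (k := 6) rfl (by decide +kernel)

theorem b46 : Block F al 2944 3008 0 :=
  block_of_check (k := 6) rfl (by decide +kernel)

theorem b47 : Block F al 3008 3072 0 :=
  block_of_check (k := 6) rfl (by decide +kernel)

theorem b48 : Block F al 3072 3136 0 :=
  block_of_check (k := 6) rfl (by decide +kernel)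

theorem b49 : Block F al 3136 3200 1 :=
  block_of_check (k := 6) rfl (by decide +kernel)

theorem b50 : Block F al 3200 3264 0 :=
  block_of_check (k := 6) rfl (by decide +kernel)

theorem b51 : Block F al 3264 3328 0 :=
  block_of_check (k := 6) rfl (by decide +kernel)

theorem b52 : Block F al 3328 3392 0 :=
  block_of_check (k := 6) rfl (by decide +kernel)

theorem b53 : Block F al 3392 3456 0 :=
  block_of_check (k := 6) rfl (by decide +kernel)

theorem b54 : Block F al 3456 3520 0 :=
  block_of_check (k := 6) rfl (by decide +kernel)

theorem b55 : Block F al 3520 3584 0 :=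
  block_of_check (k := 6) rfl (by decide +kernel)

theorem b56 : Block F al 3584 3648 0 :=
  block_of_check (k := 6) rfl (by decide +kernel)

theorem b57 : Block F al 3648 3712 0 :=
  block_of_check (k := 6) rfl (by decide +kernel)

theorem b58 : Block F al 3712 3776 0 :=
  block_of_check (k := 6) rfl (by decide +kernel)

theorem b59 : Block F al 3776 3840 0 :=
  block_of_check (k := 6) rfl (by decide +kernel)

theorem b60 : Block F al 3840 3904 0 :=
  block_of_check (k := 6) rfl (by decide +kernel)

theorem b61 : Block F al 3904 3968 0 :=
  block_of_check (k := 6) rfl (by decide +kernel)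

theorem b62 : Block F al 3968 4032 0 :=
  block_of_check (k := 6) rfl (by decide +kernel)

theorem b63 : Block F al 4032 4096 0 :=
  block_of_check (k := 6) rfl (by decide +kernel)

theorem b64 : Block F al 4096 4160 0 :=
  block_of_check (k := 6) rfl (by decide +kernel)

theorem b65 : Block F al 4160 4224 1 :=
  block_of_check (k := 6) rfl (by decide +kernel)

theorem b66 : Block F al 4224 4288 0 :=
  block_of_check (k := 6) rfl (by decide +kernel)

theorem b67 : Block F al 4288 4352 0 :=
  block_of_check (k := 6) rfl (by decide +kernel)

theorem b68 : Block F al 4352 4416 0 :=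
  block_of_check (k := 6) rfl (by decide +kernel)

theorem b69 : Block F al 4416 4480 0 :=
  block_of_check (k := 6) rfl (by decide +kernel)

theorem b70 : Block F al 4480 4544 0 :=
  block_of_check (k := 6) rfl (by decide +kernel)

theorem b71 : Block F al 4544 4608 0 :=
  block_of_check (k := 6) rfl (by decide +kernel)

theorem b72 : Block F al 4608 4672 0 :=
  block_of_check (k := 6) rfl (by decide +kernel)

theorem b73 : Block F al 4672 4736 0 :=
  block_of_check (k := 6) rfl (by decide +kernel)

theorem b74 : Block F al 4736 4800 0 :=
  block_of_check (k := 6) rfl (by decide +kernel)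

theorem b75 : Block F al 4800 4864 0 :=
  block_of_check (k := 6) rfl (by decide +kernel)

theorem b76 : Block F al 4864 4928 0 :=
  block_of_check (k := 6) rfl (by decide +kernel)

theorem b77 : Block F al 4928 4992 0 :=
  block_of_check (k := 6) rfl (by decide +kernel)

theorem b78 : Block F al 4992 5056 0 :=
  block_of_check (k := 6) rfl (by decide +kernel)

theorem b79 : Block F al 5056 5120 0 :=
  block_of_check (k := 6) rfl (by decide +kernel)

theorem b80 : Block F al 5120 5184 0 :=
  block_of_check (k := 6) rfl (by decide +kernel)

theorem b81 : Block F al 5184 5248 0 :=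
  block_of_check (k := 6) rfl (by decide +kernel)

theorem b82 : Block F al 5248 5312 0 :=
  block_of_check (k := 6) rfl (by decide +kernel)

theorem b83 : Block F al 5312 5376 0 :=
  block_of_check (k := 6) rfl (by decide +kernel)

theorem b84 : Block F al 5376 5440 0 :=
  block_of_check (k := 6) rfl (by decide +kernel)

theorem b85 : Block F al 5440 5504 0 :=
  block_of_check (k := 6) rfl (by decide +kernel)

theorem b86 : Block F al 5504 5568 0 :=
  block_of_check (k := 6) rfl (by decide +kernel)

theorem b87 : Block F al 5568 5632 0 :=
  block_of_check (k := 6) rfl (by decide +kernel)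

theorem b88 : Block F al 5632 5696 0 :=
  block_of_check (k := 6) rfl (by decide +kernel)

theorem b89 : Block F al 5696 5760 0 :=
  block_of_check (k := 6) rfl (by decide +kernel)

theorem b90 : Block F al 5760 5824 0 :=
  block_of_check (k := 6) rfl (by decide +kernel)

theorem b91 : Block F al 5824 5888 0 :=
  block_of_check (k := 6) rfl (by decide +kernel)

theorem b92 : Block F al 5888 5952 0 :=
  block_of_check (k := 6) rfl (by decide +kernel)

theorem b93 : Block F al 5952 6016 0 :=
  block_of_check (k := 6) rfl (by decide +kernel)

theorem b94 : Block F al 6016 6080 0 :=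
  block_of_check (k := 6) rfl (by decide +kernel)

theorem b95 : Block F al 6080 6144 0 :=
  block_of_check (k := 6) rfl (by decide +kernel)

theorem b96 : Block F al 6144 6208 0 :=
  block_of_check (k := 6) rfl (by decide +kernel)

theorem b97 : Block F al 6208 6272 0 :=
  block_of_check (k := 6) rfl (by decide +kernel)

theorem b98 : Block F al 6272 6336 0 :=
  block_of_check (k := 6) rfl (by decide +kernel)

theorem b99 : Block F al 6336 6400 0 :=
  block_of_check (k := 6) rfl (by decide +kernel)

theorem b100 : Block F al 6400 6464 0 :=
  block_of_check (k := 6) rfl (by decide +kernel)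

theorem b101 : Block F al 6464 6528 0 :=
  block_of_check (k := 6) rfl (by decide +kernel)

theorem b102 : Block F al 6528 6592 0 :=
  block_of_check (k := 6) rfl (by decide +kernel)

theorem b103 : Block F al 6592 6656 0 :=
  block_of_check (k := 6) rfl (by decide +kernel)

theorem b104 : Block F al 6656 6720 0 :=
  block_of_check (k := 6) rfl (by decide +kernel)

theorem b105 : Block F al 6720 6784 0 :=
  block_of_check (k := 6) rfl (by decide +kernel)

theorem b106 : Block F al 6784 6848 0 :=
  block_of_check (k := 6) rfl (by decide +kernel)

theorem b107 : Block F al 6848 6912 0 :=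
  block_of_check (k := 6) rfl (by decide +kernel)

theorem b108 : Block F al 6912 6976 0 :=
  block_of_check (k := 6) rfl (by decide +kernel)

theorem b109 : Block F al 6976 7040 0 :=
  block_of_check (k := 6) rfl (by decide +kernel)

theorem b110 : Block F al 7040 7104 0 :=
  block_of_check (k := 6) rfl (by decide +kernel)

theorem b111 : Block F al 7104 7168 0 :=
  block_of_check (k := 6) rfl (by decide +kernel)

theorem b112 : Block F al 7168 7232 0 :=
  block_of_check (k := 6) rfl (by decide +kernel)

theorem b113 : Block F al 7232 7296 0 :=
  block_of_check (k := 6) rfl (by decide +kernel)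

theorem b114 : Block F al 7296 7360 0 :=
  block_of_check (k := 6) rfl (by decide +kernel)

theorem b115 : Block F al 7360 7424 0 :=
  block_of_check (k := 6) rfl (by decide +kernel)

theorem b116 : Block F al 7424 7488 0 :=
  block_of_check (k := 6) rfl (by decide +kernel)

theorem b117 : Block F al 7488 7552 0 :=
  block_of_check (k := 6) rfl (by decide +kernel)

theorem b118 : Block F al 7552 7616 0 :=
  block_of_check (k := 6) rfl (by decide +kernel)

theorem b119 : Block F al 7616 7680 0 :=
  block_of_check (k := 6) rfl (by decide +kernel)

theorem b120 : Block F al 7680 7744 0 :=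
  block_of_check (k := 6) rfl (by decide +kernel)

theorem b121 : Block F al 7744 7808 0 :=
  block_of_check (k := 6) rfl (by decide +kernel)

theorem b122 : Block F al 7808 7872 0 :=
  block_of_check (k := 6) rfl (by decide +kernel)

theorem b123 : Block F al 7872 7936 0 :=
  block_of_check (k := 6) rfl (by decide +kernel)

theorem b124 : Block F al 7936 8000 0 :=
  block_of_check (k := 6) rfl (by decide +kernel)

theorem b125 : Block F al 8000 8064 0 :=
  block_of_check (k := 6) rfl (by decide +kernel)

theorem b126 : Block F al 8064 8128 0 :=
  block_of_check (k := 6) rfl (by decide +kernel)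

theorem b127 : Block F al 8128 8192 0 :=
  block_of_check (k := 6) rfl (by decide +kernel)

theorem b128 : Block F al 8192 8256 0 :=
  block_of_check (k := 6) rfl (by decide +kernel)

theorem b129 : Block F al 8256 8320 0 :=
  block_of_check (k := 6) rfl (by decide +kernel)

theorem b130 : Block F al 8320 8384 0 :=
  block_of_check (k := 6) rfl (by decide +kernel)

theorem b131 : Block F al 8384 8448 0 :=
  block_of_check (k := 6) rfl (by decide +kernel)

theorem b132 : Block F al 8448 8512 0 :=
  block_of_check (k := 6) rfl (by decide +kernel)

theorem b133 : Block F al 8512 8576 0 :=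
  block_of_check (k := 6) rfl (by decide +kernel)

theorem b134 : Block F al 8576 8640 0 :=
  block_of_check (k := 6) rfl (by decide +kernel)

theorem b135 : Block F al 8640 8704 0 :=
  block_of_check (k := 6) rfl (by decide +kernel)

theorem b136 : Block F al 8704 8768 0 :=
  block_of_check (k := 6) rfl (by decide +kernel)

theorem b137 : Block F al 8768 8832 0 :=
  block_of_check (k := 6) rfl (by decide +kernel)

theorem b138 : Block F al 8832 8896 0 :=
  block_of_check (k := 6) rfl (by decide +kernel)

theorem b139 : Block F al 8896 8960 0 :=
  block_of_check (k := 6) rfl (by decide +kernel)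

theorem b140 : Block F al 8960 9024 0 :=
  block_of_check (k := 6) rfl (by decide +kernel)

theorem b141 : Block F al 9024 9088 0 :=
  block_of_check (k := 6) rfl (by decide +kernel)

theorem b142 : Block F al 9088 9152 0 :=
  block_of_check (k := 6) rfl (by decide +kernel)

theorem b143 : Block F al 9152 9216 0 :=
  block_of_check (k := 6) rfl (by decide +kernel)

theorem b144 : Block F al 9216 9280 0 :=
  block_of_check (k := 6) rfl (by decide +kernel)

theorem b145 : Block F al 9280 9344 0 :=
  block_of_check (k := 6) rfl (by decide +kernel)

theorem b146 : Block F al 9344 9408 0 :=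
  block_of_check (k := 6) rfl (by decide +kernel)

theorem b147 : Block F al 9408 9472 0 :=
  block_of_check (k := 6) rfl (by decide +kernel)

theorem b148 : Block F al 9472 9536 0 :=
  block_of_check (k := 6) rfl (by decide +kernel)

theorem b149 : Block F al 9536 9600 0 :=
  block_of_check (k := 6) rfl (by decide +kernel)

theorem b150 : Block F al 9600 9664 0 :=
  block_of_check (k := 6) rfl (by decide +kernel)

theorem b151 : Block F al 9664 9728 0 :=
  block_of_check (k := 6) rfl (by decide +kernel)

theorem b152 : Block F al 9728 9792 0 :=
  block_of_check (k := 6) rfl (by decide +kernel)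

theorem b153 : Block F al 9792 9856 0 :=
  block_of_check (k := 6) rfl (by decide +kernel)

theorem b154 : Block F al 9856 9920 0 :=
  block_of_check (k := 6) rfl (by decide +kernel)

theorem b155 : Block F al 9920 9984 0 :=
  block_of_check (k := 6) rfl (by decide +kernel)

theorem b156 : Block F al 9984 10048 0 :=
  block_of_check (k := 6) rfl (by decide +kernel)

theorem b157 : Block F al 10048 10112 0 :=
  block_of_check (k := 6) rfl (by decide +kernel)

theorem b158 : Block F al 10112 10176 0 :=
  block_of_check (k := 6) rfl (by decide +kernel)

theorem b159 : Block F al 10176 10240 0 :=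
  block_of_check (k := 6) rfl (by decide +kernel)

theorem b160 : Block F al 10240 10304 0 :=
  block_of_check (k := 6) rfl (by decide +kernel)

theorem b161 : Block F al 10304 10368 0 :=
  block_of_check (k := 6) rfl (by decide +kernel)

theorem b162 : Block F al 10368 10432 0 :=
  block_of_check (k := 6) rfl (by decide +kernel)

theorem b163 : Block F al 10432 10496 0 :=
  block_of_check (k := 6) rfl (by decide +kernel)

theorem b164 : Block F al 10496 10560 0 :=
  block_of_check (k := 6) rfl (by decide +kernel)

theorem b165 : Block F al 10560 10624 0 :=
  block_of_check (k := 6) rfl (by decide +kernel)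

theorem b166 : Block F al 10624 10688 0 :=
  block_of_check (k := 6) rfl (by decide +kernel)

theorem b167 : Block F al 10688 10752 0 :=
  block_of_check (k := 6) rfl (by decide +kernel)

theorem b168 : Block F al 10752 10816 0 :=
  block_of_check (k := 6) rfl (by decide +kernel)

theorem b169 : Block F al 10816 10880 0 :=
  block_of_check (k := 6) rfl (by decide +kernel)

theorem b170 : Block F al 10880 10944 0 :=
  block_of_check (k := 6) rfl (by decide +kernel)

theorem b171 : Block F al 10944 11008 0 :=
  block_of_check (k := 6) rfl (by decide +kernel)

theorem b172 : Block F al 11008 11072 0 :=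
  block_of_check (k := 6) rfl (by decide +kernel)

theorem b173 : Block F al 11072 11136 0 :=
  block_of_check (k := 6) rfl (by decide +kernel)

theorem b174 : Block F al 11136 11200 0 :=
  block_of_check (k := 6) rfl (by decide +kernel)

theorem b175 : Block F al 11200 11264 0 :=
  block_of_check (k := 6) rfl (by decide +kernel)

theorem b176 : Block F al 11264 11328 0 :=
  block_of_check (k := 6) rfl (by decide +kernel)

theorem b177 : Block F al 11328 11392 0 :=
  block_of_check (k := 6) rfl (by decide +kernel)

theorem b178 : Block F al 11392 11456 0 :=
  block_of_check (k := 6) rfl (by decide +kernel)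

theorem b179 : Block F al 11456 11520 0 :=
  block_of_check (k := 6) rfl (by decide +kernel)

theorem b180 : Block F al 11520 11584 0 :=
  block_of_check (k := 6) rfl (by decide +kernel)

theorem b181 : Block F al 11584 11648 0 :=
  block_of_check (k := 6) rfl (by decide +kernel)

theorem b182 : Block F al 11648 11712 0 :=
  block_of_check (k := 6) rfl (by decide +kernel)

theorem b183 : Block F al 11712 11776 0 :=
  block_of_check (k := 6) rfl (by decide +kernel)

theorem b184 : Block F al 11776 11840 0 :=
  block_of_check (k := 6) rfl (by decide +kernel)

theorem b185 : Block F al 11840 11904 0 :=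
  block_of_check (k := 6) rfl (by decide +kernel)

theorem b186 : Block F al 11904 11968 0 :=
  block_of_check (k := 6) rfl (by decide +kernel)

theorem b187 : Block F al 11968 12032 0 :=
  block_of_check (k := 6) rfl (by decide +kernel)

theorem b188 : Block F al 12032 12096 0 :=
  block_of_check (k := 6) rfl (by decide +kernel)

theorem b189 : Block F al 12096 12160 0 :=
  block_of_check (k := 6) rfl (by decide +kernel)

theorem b190 : Block F al 12160 12224 0 :=
  block_of_check (k := 6) rfl (by decide +kernel)

theorem b191 : Block F al 12224 12288 0 :=
  block_of_check (k := 6) rfl (by decide +kernel)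

theorem b192 : Block F al 12288 12352 0 :=
  block_of_check (k := 6) rfl (by decide +kernel)

theorem b193 : Block F al 12352 12416 0 :=
  block_of_check (k := 6) rfl (by decide +kernel)

theorem b194 : Block F al 12416 12480 0 :=
  block_of_check (k := 6) rfl (by decide +kernel)

theorem b195 : Block F al 12480 12544 0 :=
  block_of_check (k := 6) rfl (by decide +kernel)

theorem b196 : Block F al 12544 12608 0 :=
  block_of_check (k := 6) rfl (by decide +kernel)

theorem b197 : Block F al 12608 12672 0 :=
  block_of_check (k := 6) rfl (by decide +kernel)

theorem b198 : Block F al 12672 12736 0 :=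
  block_of_check (k := 6) rfl (by decide +kernel)

theorem b199 : Block F al 12736 12800 0 :=
  block_of_check (k := 6) rfl (by decide +kernel)

theorem b200 : Block F al 12800 12864 0 :=
  block_of_check (k := 6) rfl (by decide +kernel)

theorem b201 : Block F al 12864 12928 0 :=
  block_of_check (k := 6) rfl (by decide +kernel)

theorem b202 : Block F al 12928 12992 0 :=
  block_of_check (k := 6) rfl (by decide +kernel)

theorem b203 : Block F al 12992 13056 0 :=
  block_of_check (k := 6) rfl (by decide +kernel)

theorem b204 : Block F al 13056 13120 0 :=
  block_of_check (k := 6) rfl (by decide +kernel)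

theorem b205 : Block F al 13120 13184 0 :=
  block_of_check (k := 6) rfl (by decide +kernel)

theorem b206 : Block F al 13184 13248 0 :=
  block_of_check (k := 6) rfl (by decide +kernel)

theorem b207 : Block F al 13248 13312 0 :=
  block_of_check (k := 6) rfl (by decide +kernel)

theorem b208 : Block F al 13312 13376 0 :=
  block_of_check (k := 6) rfl (by decide +kernel)

theorem b209 : Block F al 13376 13440 0 :=
  block_of_check (k := 6) rfl (by decide +kernel)

theorem b210 : Block F al 13440 13504 0 :=
  block_of_check (k := 6) rfl (by decide +kernel)

theorem b211 : Block F al 13504 13568 0 :=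
  block_of_check (k := 6) rfl (by decide +kernel)

theorem b212 : Block F al 13568 13632 0 :=
  block_of_check (k := 6) rfl (by decide +kernel)

theorem b213 : Block F al 13632 13696 0 :=
  block_of_check (k := 6) rfl (by decide +kernel)

theorem b214 : Block F al 13696 13760 0 :=
  block_of_check (k := 6) rfl (by decide +kernel)

theorem b215 : Block F al 13760 13824 0 :=
  block_of_check (k := 6) rfl (by decide +kernel)

theorem b216 : Block F al 13824 13888 0 :=
  block_of_check (k := 6) rfl (by decide +kernel)

theorem b217 : Block F al 13888 13952 0 :=
  block_of_check (k := 6) rfl (by decide +kernel)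

theorem b218 : Block F al 13952 14016 0 :=
  block_of_check (k := 6) rfl (by decide +kernel)

theorem b219 : Block F al 14016 14080 0 :=
  block_of_check (k := 6) rfl (by decide +kernel)

theorem b220 : Block F al 14080 14144 0 :=
  block_of_check (k := 6) rfl (by decide +kernel)

theorem b221 : Block F al 14144 14208 0 :=
  block_of_check (k := 6) rfl (by decide +kernel)

theorem b222 : Block F al 14208 14272 0 :=
  block_of_check (k := 6) rfl (by decide +kernel)

theorem b223 : Block F al 14272 14336 0 :=
  block_of_check (k := 6) rfl (by decide +kernel)

theorem b224 : Block F al 14336 14400 0 :=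
  block_of_check (k := 6) rfl (by decide +kernel)

theorem b225 : Block F al 14400 14464 0 :=
  block_of_check (k := 6) rfl (by decide +kernel)

end Cfsg.Agent.TcData.HNH.R2
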