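import Mathlib
import Cfsg.Agent.TcData.HNH.R2.Chk0

set_option autoImplicit false
set_option Elab.async false
set_option maxRecDepth 100000
set_option linter.all false

namespace Cfsg.Agent.TcData.HNH.R2

open Cfsg.Spor Cfsg.Agent.Lib.TcFacts Cfsg.Agent.Lib.TcBits Cfsg.Agent.Lib.TcPres Cfsg.Spor.HN Cfsg.Agent.TcData.HNH

theorem c0 : Block F al 0 64 44 := b0

theorem c1 : Block F al 0 128 77 :=
  block_comb c0 b1 (Nat.zero_le _) (Nat.le_of_ble_eq_true rfl) rfl

theorem c2 : Block F al 0 192 99 :=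
  block_comb c1 b2 (Nat.zero_le _) (Nat.le_of_ble_eq_true rfl) rfl

theorem c3 : Block F al 0 256 132 :=
  block_comb c2 b3 (Nat.zero_le _) (Nat.le_of_ble_eq_true rfl) rfl

theorem c4 : Block F al 0 320 145 :=
  block_comb c3 b4 (Nat.zero_le _) (Nat.le_of_ble_eq_true rfl) rfl

theorem c5 : Block F al 0 384 156 :=
  block_comb c4 b5 (Nat.zero_le _) (Nat.le_of_ble_eq_true rfl) rfl

theorem c6 : Block F al 0 448 166 :=
  block_comb c5 b6 (Nat.zero_le _) (Nat.le_of_ble_eq_true rfl) rfl

theorem c7 : Block F al 0 512 185 :=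
  block_comb c6 b7 (Nat.zero_le _) (Nat.le_of_ble_eq_true rfl) rfl

theorem c8 : Block F al 0 576 211 :=
  block_comb c7 b8 (Nat.zero_le _) (Nat.le_of_ble_eq_true rfl) rfl

theorem c9 : Block F al 0 640 230 :=
  block_comb c8 b9 (Nat.zero_le _) (Nat.le_of_ble_eq_true rfl) rfl

theorem c10 : Block F al 0 704 241 :=
  block_comb c9 b10 (Nat.zero_le _) (Nat.le_of_ble_eq_true rfl) rfl

theorem c11 : Block F al 0 768 246 :=
  block_comb c10 b11 (Nat.zero_le _) (Nat.le_of_ble_eq_true rfl) rfl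

theorem c12 : Block F al 0 832 255 :=
  block_comb c11 b12 (Nat.zero_le _) (Nat.le_of_ble_eq_true rfl) rfl

theorem c13 : Block F al 0 896 257 :=
  block_comb c12 b13 (Nat.zero_le _) (Nat.le_of_ble_eq_true rfl) rfl

theorem c14 : Block F al 0 960 264 :=
  block_comb c13 b14 (Nat.zero_le _) (Nat.le_of_ble_eq_true rfl) rfl

theorem c15 : Block F al 0 1024 264 :=
  block_comb c14 b15 (Nat.zero_le _) (Nat.le_of_ble_eq_true rfl) rfl

theorem c16 : Block F al 0 1088 272 :=
  block_comb c15 b16 (Nat.zero_le _) (Nat.le_of_ble_eq_true rfl) rfl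

theorem c17 : Block F al 0 1152 280 :=
  block_comb c16 b17 (Nat.zero_le _) (Nat.le_of_ble_eq_true rfl) rfl

theorem c18 : Block F al 0 1216 287 :=
  block_comb c17 b18 (Nat.zero_le _) (Nat.le_of_ble_eq_true rfl) rfl

theorem c19 : Block F al 0 1280 302 :=
  block_comb c18 b19 (Nat.zero_le _) (Nat.le_of_ble_eq_true rfl) rfl

theorem c20 : Block F al 0 1344 310 :=
  block_comb c19 b20 (Nat.zero_le _) (Nat.le_of_ble_eq_true rfl) rfl

theorem c21 : Block F al 0 1408 313 :=
  block_comb c20 b21 (Nat.zero_le _) (Nat.le_of_ble_eq_true rfl) rfl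

theorem c22 : Block F al 0 1472 318 :=
  block_comb c21 b22 (Nat.zero_le _) (Nat.le_of_ble_eq_true rfl) rfl

theorem c23 : Block F al 0 1536 326 :=
  block_comb c22 b23 (Nat.zero_le _) (Nat.le_of_ble_eq_true rfl) rfl

theorem c24 : Block F al 0 1600 327 :=
  block_comb c23 b24 (Nat.zero_le _) (Nat.le_of_ble_eq_true rfl) rfl

theorem c25 : Block F al 0 1664 330 :=
  block_comb c24 b25 (Nat.zero_le _) (Nat.le_of_ble_eq_true rfl) rfl

theorem c26 : Block F al 0 1728 331 :=
  block_comb c25 b26 (Nat.zero_le _) (Nat.le_of_ble_eq_true rfl) rfl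

theorem c27 : Block F al 0 1792 334 :=
  block_comb c26 b27 (Nat.zero_le _) (Nat.le_of_ble_eq_true rfl) rfl

theorem c28 : Block F al 0 1856 337 :=
  block_comb c27 b28 (Nat.zero_le _) (Nat.le_of_ble_eq_true rfl) rfl

theorem c29 : Block F al 0 1920 337 :=
  block_comb c28 b29 (Nat.zero_le _) (Nat.le_of_ble_eq_true rfl) rfl

theorem c30 : Block F al 0 1984 337 :=
  block_comb c29 b30 (Nat.zero_le _) (Nat.le_of_ble_eq_true rfl) rfl

theorem c31 : Block F al 0 2048 337 :=
  block_comb c30 b31 (Nat.zero_le _) (Nat.le_of_ble_eq_true rfl) rfl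

theorem c32 : Block F al 0 2112 340 :=
  block_comb c31 b32 (Nat.zero_le _) (Nat.le_of_ble_eq_true rfl) rfl

theorem c33 : Block F al 0 2176 340 :=
  block_comb c32 b33 (Nat.zero_le _) (Nat.le_of_ble_eq_true rfl) rfl

theorem c34 : Block F al 0 2240 340 :=
  block_comb c33 b34 (Nat.zero_le _) (Nat.le_of_ble_eq_true rfl) rfl

theorem c35 : Block F al 0 2304 342 :=
  block_comb c34 b35 (Nat.zero_le _) (Nat.le_of_ble_eq_true rfl) rfl

theorem c36 : Block F al 0 2368 342 :=
  block_comb c35 b36 (Nat.zero_le _) (Nat.le_of_ble_eq_true rfl) rfl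

theorem c37 : Block F al 0 2432 343 :=
  block_comb c36 b37 (Nat.zero_le _) (Nat.le_of_ble_eq_true rfl) rfl

theorem c38 : Block F al 0 2496 343 :=
  block_comb c37 b38 (Nat.zero_le _) (Nat.le_of_ble_eq_true rfl) rfl

theorem c39 : Block F al 0 2560 343 :=
  block_comb c38 b39 (Nat.zero_le _) (Nat.le_of_ble_eq_true rfl) rfl

theorem c40 : Block F al 0 2624 345 :=
  block_comb c39 b40 (Nat.zero_le _) (Nat.le_of_ble_eq_true rfl) rfl

theorem c41 : Block F al 0 2688 348 :=
  block_comb c40 b41 (Nat.zero_le _) (Nat.le_of_ble_eq_true rfl) rfl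

theorem c42 : Block F al 0 2752 348 :=
  block_comb c41 b42 (Nat.zero_le _) (Nat.le_of_ble_eq_true rfl) rfl

theorem c43 : Block F al 0 2816 350 :=
  block_comb c42 b43 (Nat.zero_le _) (Nat.le_of_ble_eq_true rfl) rfl

theorem c44 : Block F al 0 2880 350 :=
  block_comb c43 b44 (Nat.zero_le _) (Nat.le_of_ble_eq_true rfl) rfl

theorem c45 : Block F al 0 2944 350 :=
  block_comb c44 b45 (Nat.zero_le _) (Nat.le_of_ble_eq_true rfl) rfl

theorem c46 : Block F al 0 3008 350 :=
  block_comb c45 b46 (Nat.zero_le _) (Nat.le_of_ble_eq_true rfl) rfl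

theorem c47 : Block F al 0 3072 350 :=
  block_comb c46 b47 (Nat.zero_le _) (Nat.le_of_ble_eq_true rfl) rfl

theorem c48 : Block F al 0 3136 350 :=
  block_comb c47 b48 (Nat.zero_le _) (Nat.le_of_ble_eq_true rfl) rfl

theorem c49 : Block F al 0 3200 351 :=
  block_comb c48 b49 (Nat.zero_le _) (Nat.le_of_ble_eq_true rfl) rfl

theorem c50 : Block F al 0 3264 351 :=
  block_comb c49 b50 (Nat.zero_le _) (Nat.le_of_ble_eq_true rfl) rfl

theorem c51 : Block F al 0 3328 351 :=
  block_comb c50 b51 (Nat.zero_le _) (Nat.le_of_ble_eq_true rfl) rfl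

theorem c52 : Block F al 0 3392 351 :=
  block_comb c51 b52 (Nat.zero_le _) (Nat.le_of_ble_eq_true rfl) rfl

theorem c53 : Block F al 0 3456 351 :=
  block_comb c52 b53 (Nat.zero_le _) (Nat.le_of_ble_eq_true rfl) rfl

theorem c54 : Block F al 0 3520 351 :=
  block_comb c53 b54 (Nat.zero_le _) (Nat.le_of_ble_eq_true rfl) rfl

theorem c55 : Block F al 0 3584 351 :=
  block_comb c54 b55 (Nat.zero_le _) (Nat.le_of_ble_eq_true rfl) rfl

theorem c56 : Block F al 0 3648 351 :=
  block_comb c55 b56 (Nat.zero_le _) (Nat.le_of_ble_eq_true rfl) rfl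

theorem c57 : Block F al 0 3712 351 :=
  block_comb c56 b57 (Nat.zero_le _) (Nat.le_of_ble_eq_true rfl) rfl

theorem c58 : Block F al 0 3776 351 :=
  block_comb c57 b58 (Nat.zero_le _) (Nat.le_of_ble_eq_true rfl) rfl

theorem c59 : Block F al 0 3840 351 :=
  block_comb c58 b59 (Nat.zero_le _) (Nat.le_of_ble_eq_true rfl) rfl

theorem c60 : Block F al 0 3904 351 :=
  block_comb c59 b60 (Nat.zero_le _) (Nat.le_of_ble_eq_true rfl) rfl

theorem c61 : Block F al 0 3968 351 :=
  block_comb c60 b61 (Nat.zero_le _) (Nat.le_of_ble_eq_true rfl) rfl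

theorem c62 : Block F al 0 4032 351 :=
  block_comb c61 b62 (Nat.zero_le _) (Nat.le_of_ble_eq_true rfl) rfl

theorem c63 : Block F al 0 4096 351 :=
  block_comb c62 b63 (Nat.zero_le _) (Nat.le_of_ble_eq_true rfl) rfl

theorem c64 : Block F al 0 4160 351 :=
  block_comb c63 b64 (Nat.zero_le _) (Nat.le_of_ble_eq_true rfl) rfl

theorem c65 : Block F al 0 4224 352 :=
  block_comb c64 b65 (Nat.zero_le _) (Nat.le_of_ble_eq_true rfl) rfl

theorem c66 : Block F al 0 4288 352 :=
  block_comb c65 b66 (Nat.zero_le _) (Nat.le_of_ble_eq_true rfl) rfl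

theorem c67 : Block F al 0 4352 352 :=
  block_comb c66 b67 (Nat.zero_le _) (Nat.le_of_ble_eq_true rfl) rfl

theorem c68 : Block F al 0 4416 352 :=
  block_comb c67 b68 (Nat.zero_le _) (Nat.le_of_ble_eq_true rfl) rfl

theorem c69 : Block F al 0 4480 352 :=
  block_comb c68 b69 (Nat.zero_le _) (Nat.le_of_ble_eq_true rfl) rfl

theorem c70 : Block F al 0 4544 352 :=
  block_comb c69 b70 (Nat.zero_le _) (Nat.le_of_ble_eq_true rfl) rfl

theorem c71 : Block F al 0 4608 352 :=
  block_comb c70 b71 (Nat.zero_le _) (Nat.le_of_ble_eq_true rfl) rfl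

theorem c72 : Block F al 0 4672 352 :=
  block_comb c71 b72 (Nat.zero_le _) (Nat.le_of_ble_eq_true rfl) rfl

theorem c73 : Block F al 0 4736 352 :=
  block_comb c72 b73 (Nat.zero_le _) (Nat.le_of_ble_eq_true rfl) rfl

theorem c74 : Block F al 0 4800 352 :=
  block_comb c73 b74 (Nat.zero_le _) (Nat.le_of_ble_eq_true rfl) rfl

theorem c75 : Block F al 0 4864 352 :=
  block_comb c74 b75 (Nat.zero_le _) (Nat.le_of_ble_eq_true rfl) rfl

theorem c76 : Block F al 0 4928 352 :=
  block_comb c75 b76 (Nat.zero_le _) (Nat.le_of_ble_eq_true rfl) rfl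

theorem c77 : Block F al 0 4992 352 :=
  block_comb c76 b77 (Nat.zero_le _) (Nat.le_of_ble_eq_true rfl) rfl

theorem c78 : Block F al 0 5056 352 :=
  block_comb c77 b78 (Nat.zero_le _) (Nat.le_of_ble_eq_true rfl) rfl

theorem c79 : Block F al 0 5120 352 :=
  block_comb c78 b79 (Nat.zero_le _) (Nat.le_of_ble_eq_true rfl) rfl

theorem c80 : Block F al 0 5184 352 :=
  block_comb c79 b80 (Nat.zero_le _) (Nat.le_of_ble_eq_true rfl) rfl

theorem c81 : Block F al 0 5248 352 :=
  block_comb c80 b81 (Nat.zero_le _) (Nat.le_of_ble_eq_true rfl) rfl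

theorem c82 : Block F al 0 5312 352 :=
  block_comb c81 b82 (Nat.zero_le _) (Nat.le_of_ble_eq_true rfl) rfl

theorem c83 : Block F al 0 5376 352 :=
  block_comb c82 b83 (Nat.zero_le _) (Nat.le_of_ble_eq_true rfl) rfl

theorem c84 : Block F al 0 5440 352 :=
  block_comb c83 b84 (Nat.zero_le _) (Nat.le_of_ble_eq_true rfl) rfl

theorem c85 : Block F al 0 5504 352 :=
  block_comb c84 b85 (Nat.zero_le _) (Nat.le_of_ble_eq_true rfl) rfl

theorem c86 : Block F al 0 5568 352 :=
  block_comb c85 b86 (Nat.zero_le _) (Nat.le_of_ble_eq_true rfl) rfl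

theorem c87 : Block F al 0 5632 352 :=
  block_comb c86 b87 (Nat.zero_le _) (Nat.le_of_ble_eq_true rfl) rfl

theorem c88 : Block F al 0 5696 352 :=
  block_comb c87 b88 (Nat.zero_le _) (Nat.le_of_ble_eq_true rfl) rfl

theorem c89 : Block F al 0 5760 352 :=
  block_comb c88 b89 (Nat.zero_le _) (Nat.le_of_ble_eq_true rfl) rfl

theorem c90 : Block F al 0 5824 352 :=
  block_comb c89 b90 (Nat.zero_le _) (Nat.le_of_ble_eq_true rfl) rfl

theorem c91 : Block F al 0 5888 352 :=
  block_comb c90 b91 (Nat.zero_le _) (Nat.le_of_ble_eq_true rfl) rfl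

theorem c92 : Block F al 0 5952 352 :=
  block_comb c91 b92 (Nat.zero_le _) (Nat.le_of_ble_eq_true rfl) rfl

theorem c93 : Block F al 0 6016 352 :=
  block_comb c92 b93 (Nat.zero_le _) (Nat.le_of_ble_eq_true rfl) rfl

theorem c94 : Block F al 0 6080 352 :=
  block_comb c93 b94 (Nat.zero_le _) (Nat.le_of_ble_eq_true rfl) rfl

theorem c95 : Block F al 0 6144 352 :=
  block_comb c94 b95 (Nat.zero_le _) (Nat.le_of_ble_eq_true rfl) rfl

theorem c96 : Block F al 0 6208 352 :=
  block_comb c95 b96 (Nat.zero_le _) (Nat.le_of_ble_eq_true rfl) rfl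

theorem c97 : Block F al 0 6272 352 :=
  block_comb c96 b97 (Nat.zero_le _) (Nat.le_of_ble_eq_true rfl) rfl

theorem c98 : Block F al 0 6336 352 :=
  block_comb c97 b98 (Nat.zero_le _) (Nat.le_of_ble_eq_true rfl) rfl

theorem c99 : Block F al 0 6400 352 :=
  block_comb c98 b99 (Nat.zero_le _) (Nat.le_of_ble_eq_true rfl) rfl

theorem c100 : Block F al 0 6464 352 :=
  block_comb c99 b100 (Nat.zero_le _) (Nat.le_of_ble_eq_true rfl) rfl

theorem c101 : Block F al 0 6528 352 :=
  block_comb c100 b101 (Nat.zero_le _) (Nat.le_of_ble_eq_true rfl) rfl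

theorem c102 : Block F al 0 6592 352 :=
  block_comb c101 b102 (Nat.zero_le _) (Nat.le_of_ble_eq_true rfl) rfl

theorem c103 : Block F al 0 6656 352 :=
  block_comb c102 b103 (Nat.zero_le _) (Nat.le_of_ble_eq_true rfl) rfl

theorem c104 : Block F al 0 6720 352 :=
  block_comb c103 b104 (Nat.zero_le _) (Nat.le_of_ble_eq_true rfl) rfl

theorem c105 : Block F al 0 6784 352 :=
  block_comb c104 b105 (Nat.zero_le _) (Nat.le_of_ble_eq_true rfl) rfl

theorem c106 : Block F al 0 6848 352 :=
  block_comb c105 b106 (Nat.zero_le _) (Nat.le_of_ble_eq_true rfl) rfl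

theorem c107 : Block F al 0 6912 352 :=
  block_comb c106 b107 (Nat.zero_le _) (Nat.le_of_ble_eq_true rfl) rfl

theorem c108 : Block F al 0 6976 352 :=
  block_comb c107 b108 (Nat.zero_le _) (Nat.le_of_ble_eq_true rfl) rfl

theorem c109 : Block F al 0 7040 352 :=
  block_comb c108 b109 (Nat.zero_le _) (Nat.le_of_ble_eq_true rfl) rfl

theorem c110 : Block F al 0 7104 352 :=
  block_comb c109 b110 (Nat.zero_le _) (Nat.le_of_ble_eq_true rfl) rfl

theorem c111 : Block F al 0 7168 352 :=
  block_comb c110 b111 (Nat.zero_le _) (Nat.le_of_ble_eq_true rfl) rfl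

theorem c112 : Block F al 0 7232 352 :=
  block_comb c111 b112 (Nat.zero_le _) (Nat.le_of_ble_eq_true rfl) rfl

theorem c113 : Block F al 0 7296 352 :=
  block_comb c112 b113 (Nat.zero_le _) (Nat.le_of_ble_eq_true rfl) rfl

theorem c114 : Block F al 0 7360 352 :=
  block_comb c113 b114 (Nat.zero_le _) (Nat.le_of_ble_eq_true rfl) rfl

theorem c115 : Block F al 0 7424 352 :=
  block_comb c114 b115 (Nat.zero_le _) (Nat.le_of_ble_eq_true rfl) rfl

theorem c116 : Block F al 0 7488 352 :=
  block_comb c115 b116 (Nat.zero_le _) (Nat.le_of_ble_eq_true rfl) rfl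

theorem c117 : Block F al 0 7552 352 :=
  block_comb c116 b117 (Nat.zero_le _) (Nat.le_of_ble_eq_true rfl) rfl

theorem c118 : Block F al 0 7616 352 :=
  block_comb c117 b118 (Nat.zero_le _) (Nat.le_of_ble_eq_true rfl) rfl

theorem c119 : Block F al 0 7680 352 :=
  block_comb c118 b119 (Nat.zero_le _) (Nat.le_of_ble_eq_true rfl) rfl

theorem c120 : Block F al 0 7744 352 :=
  block_comb c119 b120 (Nat.zero_le _) (Nat.le_of_ble_eq_true rfl) rfl

theorem c121 : Block F al 0 7808 352 :=
  block_comb c120 b121 (Nat.zero_le _) (Nat.le_of_ble_eq_true rfl) rfl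

theorem c122 : Block F al 0 7872 352 :=
  block_comb c121 b122 (Nat.zero_le _) (Nat.le_of_ble_eq_true rfl) rfl

theorem c123 : Block F al 0 7936 352 :=
  block_comb c122 b123 (Nat.zero_le _) (Nat.le_of_ble_eq_true rfl) rfl

theorem c124 : Block F al 0 8000 352 :=
  block_comb c123 b124 (Nat.zero_le _) (Nat.le_of_ble_eq_true rfl) rfl

theorem c125 : Block F al 0 8064 352 :=
  block_comb c124 b125 (Nat.zero_le _) (Nat.le_of_ble_eq_true rfl) rfl

theorem c126 : Block F al 0 8128 352 :=
  block_comb c125 b126 (Nat.zero_le _) (Nat.le_of_ble_eq_true rfl) rfl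

theorem c127 : Block F al 0 8192 352 :=
  block_comb c126 b127 (Nat.zero_le _) (Nat.le_of_ble_eq_true rfl) rfl

theorem c128 : Block F al 0 8256 352 :=
  block_comb c127 b128 (Nat.zero_le _) (Nat.le_of_ble_eq_true rfl) rfl

theorem c129 : Block F al 0 8320 352 :=
  block_comb c128 b129 (Nat.zero_le _) (Nat.le_of_ble_eq_true rfl) rfl

theorem c130 : Block F al 0 8384 352 :=
  block_comb c129 b130 (Nat.zero_le _) (Nat.le_of_ble_eq_true rfl) rfl

theorem c131 : Block F al 0 8448 352 :=
  block_comb c130 b131 (Nat.zero_le _) (Nat.le_of_ble_eq_true rfl) rfl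

theorem c132 : Block F al 0 8512 352 :=
  block_comb c131 b132 (Nat.zero_le _) (Nat.le_of_ble_eq_true rfl) rfl

theorem c133 : Block F al 0 8576 352 :=
  block_comb c132 b133 (Nat.zero_le _) (Nat.le_of_ble_eq_true rfl) rfl

theorem c134 : Block F al 0 8640 352 :=
  block_comb c133 b134 (Nat.zero_le _) (Nat.le_of_ble_eq_true rfl) rfl

theorem c135 : Block F al 0 8704 352 :=
  block_comb c134 b135 (Nat.zero_le _) (Nat.le_of_ble_eq_true rfl) rfl

theorem c136 : Block F al 0 8768 352 :=
  block_comb c135 b136 (Nat.zero_le _) (Nat.le_of_ble_eq_true rfl) rfl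

theorem c137 : Block F al 0 8832 352 :=
  block_comb c136 b137 (Nat.zero_le _) (Nat.le_of_ble_eq_true rfl) rfl

theorem c138 : Block F al 0 8896 352 :=
  block_comb c137 b138 (Nat.zero_le _) (Nat.le_of_ble_eq_true rfl) rfl

theorem c139 : Block F al 0 8960 352 :=
  block_comb c138 b139 (Nat.zero_le _) (Nat.le_of_ble_eq_true rfl) rfl

theorem c140 : Block F al 0 9024 352 :=
  block_comb c139 b140 (Nat.zero_le _) (Nat.le_of_ble_eq_true rfl) rfl

theorem c141 : Block F al 0 9088 352 :=
  block_comb c140 b141 (Nat.zero_le _) (Nat.le_of_ble_eq_true rfl) rfl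

theorem c142 : Block F al 0 9152 352 :=
  block_comb c141 b142 (Nat.zero_le _) (Nat.le_of_ble_eq_true rfl) rfl

theorem c143 : Block F al 0 9216 352 :=
  block_comb c142 b143 (Nat.zero_le _) (Nat.le_of_ble_eq_true rfl) rfl

theorem c144 : Block F al 0 9280 352 :=
  block_comb c143 b144 (Nat.zero_le _) (Nat.le_of_ble_eq_true rfl) rfl

theorem c145 : Block F al 0 9344 352 :=
  block_comb c144 b145 (Nat.zero_le _) (Nat.le_of_ble_eq_true rfl) rfl

theorem c146 : Block F al 0 9408 352 :=
  block_comb c145 b146 (Nat.zero_le _) (Nat.le_of_ble_eq_true rfl) rfl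

theorem c147 : Block F al 0 9472 352 :=
  block_comb c146 b147 (Nat.zero_le _) (Nat.le_of_ble_eq_true rfl) rfl

theorem c148 : Block F al 0 9536 352 :=
  block_comb c147 b148 (Nat.zero_le _) (Nat.le_of_ble_eq_true rfl) rfl

theorem c149 : Block F al 0 9600 352 :=
  block_comb c148 b149 (Nat.zero_le _) (Nat.le_of_ble_eq_true rfl) rfl

theorem c150 : Block F al 0 9664 352 :=
  block_comb c149 b150 (Nat.zero_le _) (Nat.le_of_ble_eq_true rfl) rfl

theorem c151 : Block F al 0 9728 352 :=
  block_comb c150 b151 (Nat.zero_le _) (Nat.le_of_ble_eq_true rfl) rfl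

theorem c152 : Block F al 0 9792 352 :=
  block_comb c151 b152 (Nat.zero_le _) (Nat.le_of_ble_eq_true rfl) rfl

theorem c153 : Block F al 0 9856 352 :=
  block_comb c152 b153 (Nat.zero_le _) (Nat.le_of_ble_eq_true rfl) rfl

theorem c154 : Block F al 0 9920 352 :=
  block_comb c153 b154 (Nat.zero_le _) (Nat.le_of_ble_eq_true rfl) rfl

theorem c155 : Block F al 0 9984 352 :=
  block_comb c154 b155 (Nat.zero_le _) (Nat.le_of_ble_eq_true rfl) rfl

theorem c156 : Block F al 0 10048 352 :=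
  block_comb c155 b156 (Nat.zero_le _) (Nat.le_of_ble_eq_true rfl) rfl

theorem c157 : Block F al 0 10112 352 :=
  block_comb c156 b157 (Nat.zero_le _) (Nat.le_of_ble_eq_true rfl) rfl

theorem c158 : Block F al 0 10176 352 :=
  block_comb c157 b158 (Nat.zero_le _) (Nat.le_of_ble_eq_true rfl) rfl

theorem c159 : Block F al 0 10240 352 :=
  block_comb c158 b159 (Nat.zero_le _) (Nat.le_of_ble_eq_true rfl) rfl

theorem c160 : Block F al 0 10304 352 :=
  block_comb c159 b160 (Nat.zero_le _) (Nat.le_of_ble_eq_true rfl) rfl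

theorem c161 : Block F al 0 10368 352 :=
  block_comb c160 b161 (Nat.zero_le _) (Nat.le_of_ble_eq_true rfl) rfl

theorem c162 : Block F al 0 10432 352 :=
  block_comb c161 b162 (Nat.zero_le _) (Nat.le_of_ble_eq_true rfl) rfl

theorem c163 : Block F al 0 10496 352 :=
  block_comb c162 b163 (Nat.zero_le _) (Nat.le_of_ble_eq_true rfl) rfl

theorem c164 : Block F al 0 10560 352 :=
  block_comb c163 b164 (Nat.zero_le _) (Nat.le_of_ble_eq_true rfl) rfl

theorem c165 : Block F al 0 10624 352 :=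
  block_comb c164 b165 (Nat.zero_le _) (Nat.le_of_ble_eq_true rfl) rfl

theorem c166 : Block F al 0 10688 352 :=
  block_comb c165 b166 (Nat.zero_le _) (Nat.le_of_ble_eq_true rfl) rfl

theorem c167 : Block F al 0 10752 352 :=
  block_comb c166 b167 (Nat.zero_le _) (Nat.le_of_ble_eq_true rfl) rfl

theorem c168 : Block F al 0 10816 352 :=
  block_comb c167 b168 (Nat.zero_le _) (Nat.le_of_ble_eq_true rfl) rfl

theorem c169 : Block F al 0 10880 352 :=
  block_comb c168 b169 (Nat.zero_le _) (Nat.le_of_ble_eq_true rfl) rfl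

theorem c170 : Block F al 0 10944 352 :=
  block_comb c169 b170 (Nat.zero_le _) (Nat.le_of_ble_eq_true rfl) rfl

theorem c171 : Block F al 0 11008 352 :=
  block_comb c170 b171 (Nat.zero_le _) (Nat.le_of_ble_eq_true rfl) rfl

theorem c172 : Block F al 0 11072 352 :=
  block_comb c171 b172 (Nat.zero_le _) (Nat.le_of_ble_eq_true rfl) rfl

theorem c173 : Block F al 0 11136 352 :=
  block_comb c172 b173 (Nat.zero_le _) (Nat.le_of_ble_eq_true rfl) rfl

theorem c174 : Block F al 0 11200 352 :=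
  block_comb c173 b174 (Nat.zero_le _) (Nat.le_of_ble_eq_true rfl) rfl

theorem c175 : Block F al 0 11264 352 :=
  block_comb c174 b175 (Nat.zero_le _) (Nat.le_of_ble_eq_true rfl) rfl

theorem c176 : Block F al 0 11328 352 :=
  block_comb c175 b176 (Nat.zero_le _) (Nat.le_of_ble_eq_true rfl) rfl

theorem c177 : Block F al 0 11392 352 :=
  block_comb c176 b177 (Nat.zero_le _) (Nat.le_of_ble_eq_true rfl) rfl

theorem c178 : Block F al 0 11456 352 :=
  block_comb c177 b178 (Nat.zero_le _) (Nat.le_of_ble_eq_true rfl) rfl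

theorem c179 : Block F al 0 11520 352 :=
  block_comb c178 b179 (Nat.zero_le _) (Nat.le_of_ble_eq_true rfl) rfl

theorem c180 : Block F al 0 11584 352 :=
  block_comb c179 b180 (Nat.zero_le _) (Nat.le_of_ble_eq_true rfl) rfl

theorem c181 : Block F al 0 11648 352 :=
  block_comb c180 b181 (Nat.zero_le _) (Nat.le_of_ble_eq_true rfl) rfl

theorem c182 : Block F al 0 11712 352 :=
  block_comb c181 b182 (Nat.zero_le _) (Nat.le_of_ble_eq_true rfl) rfl

theorem c183 : Block F al 0 11776 352 :=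
  block_comb c182 b183 (Nat.zero_le _) (Nat.le_of_ble_eq_true rfl) rfl

theorem c184 : Block F al 0 11840 352 :=
  block_comb c183 b184 (Nat.zero_le _) (Nat.le_of_ble_eq_true rfl) rfl

theorem c185 : Block F al 0 11904 352 :=
  block_comb c184 b185 (Nat.zero_le _) (Nat.le_of_ble_eq_true rfl) rfl

theorem c186 : Block F al 0 11968 352 :=
  block_comb c185 b186 (Nat.zero_le _) (Nat.le_of_ble_eq_true rfl) rfl

theorem c187 : Block F al 0 12032 352 :=
  block_comb c186 b187 (Nat.zero_le _) (Nat.le_of_ble_eq_true rfl) rfl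

theorem c188 : Block F al 0 12096 352 :=
  block_comb c187 b188 (Nat.zero_le _) (Nat.le_of_ble_eq_true rfl) rfl

theorem c189 : Block F al 0 12160 352 :=
  block_comb c188 b189 (Nat.zero_le _) (Nat.le_of_ble_eq_true rfl) rfl

theorem c190 : Block F al 0 12224 352 :=
  block_comb c189 b190 (Nat.zero_le _) (Nat.le_of_ble_eq_true rfl) rfl

theorem c191 : Block F al 0 12288 352 :=
  block_comb c190 b191 (Nat.zero_le _) (Nat.le_of_ble_eq_true rfl) rfl

theorem c192 : Block F al 0 12352 352 :=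
  block_comb c191 b192 (Nat.zero_le _) (Nat.le_of_ble_eq_true rfl) rfl

theorem c193 : Block F al 0 12416 352 :=
  block_comb c192 b193 (Nat.zero_le _) (Nat.le_of_ble_eq_true rfl) rfl

theorem c194 : Block F al 0 12480 352 :=
  block_comb c193 b194 (Nat.zero_le _) (Nat.le_of_ble_eq_true rfl) rfl

theorem c195 : Block F al 0 12544 352 :=
  block_comb c194 b195 (Nat.zero_le _) (Nat.le_of_ble_eq_true rfl) rfl

theorem c196 : Block F al 0 12608 352 :=
  block_comb c195 b196 (Nat.zero_le _) (Nat.le_of_ble_eq_true rfl) rfl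

theorem c197 : Block F al 0 12672 352 :=
  block_comb c196 b197 (Nat.zero_le _) (Nat.le_of_ble_eq_true rfl) rfl

theorem c198 : Block F al 0 12736 352 :=
  block_comb c197 b198 (Nat.zero_le _) (Nat.le_of_ble_eq_true rfl) rfl

theorem c199 : Block F al 0 12800 352 :=
  block_comb c198 b199 (Nat.zero_le _) (Nat.le_of_ble_eq_true rfl) rfl

theorem c200 : Block F al 0 12864 352 :=
  block_comb c199 b200 (Nat.zero_le _) (Nat.le_of_ble_eq_true rfl) rfl

theorem c201 : Block F al 0 12928 352 :=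
  block_comb c200 b201 (Nat.zero_le _) (Nat.le_of_ble_eq_true rfl) rfl

theorem c202 : Block F al 0 12992 352 :=
  block_comb c201 b202 (Nat.zero_le _) (Nat.le_of_ble_eq_true rfl) rfl

theorem c203 : Block F al 0 13056 352 :=
  block_comb c202 b203 (Nat.zero_le _) (Nat.le_of_ble_eq_true rfl) rfl

theorem c204 : Block F al 0 13120 352 :=
  block_comb c203 b204 (Nat.zero_le _) (Nat.le_of_ble_eq_true rfl) rfl

theorem c205 : Block F al 0 13184 352 :=
  block_comb c204 b205 (Nat.zero_le _) (Nat.le_of_ble_eq_true rfl) rfl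

theorem c206 : Block F al 0 13248 352 :=
  block_comb c205 b206 (Nat.zero_le _) (Nat.le_of_ble_eq_true rfl) rfl

theorem c207 : Block F al 0 13312 352 :=
  block_comb c206 b207 (Nat.zero_le _) (Nat.le_of_ble_eq_true rfl) rfl

theorem c208 : Block F al 0 13376 352 :=
  block_comb c207 b208 (Nat.zero_le _) (Nat.le_of_ble_eq_true rfl) rfl

theorem c209 : Block F al 0 13440 352 :=
  block_comb c208 b209 (Nat.zero_le _) (Nat.le_of_ble_eq_true rfl) rfl

theorem c210 : Block F al 0 13504 352 :=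
  block_comb c209 b210 (Nat.zero_le _) (Nat.le_of_ble_eq_true rfl) rfl

theorem c211 : Block F al 0 13568 352 :=
  block_comb c210 b211 (Nat.zero_le _) (Nat.le_of_ble_eq_true rfl) rfl

theorem c212 : Block F al 0 13632 352 :=
  block_comb c211 b212 (Nat.zero_le _) (Nat.le_of_ble_eq_true rfl) rfl

theorem c213 : Block F al 0 13696 352 :=
  block_comb c212 b213 (Nat.zero_le _) (Nat.le_of_ble_eq_true rfl) rfl

theorem c214 : Block F al 0 13760 352 :=
  block_comb c213 b214 (Nat.zero_le _) (Nat.le_of_ble_eq_true rfl) rfl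

theorem c215 : Block F al 0 13824 352 :=
  block_comb c214 b215 (Nat.zero_le _) (Nat.le_of_ble_eq_true rfl) rfl

theorem c216 : Block F al 0 13888 352 :=
  block_comb c215 b216 (Nat.zero_le _) (Nat.le_of_ble_eq_true rfl) rfl

theorem c217 : Block F al 0 13952 352 :=
  block_comb c216 b217 (Nat.zero_le _) (Nat.le_of_ble_eq_true rfl) rfl

theorem c218 : Block F al 0 14016 352 :=
  block_comb c217 b218 (Nat.zero_le _) (Nat.le_of_ble_eq_true rfl) rfl

theorem c219 : Block F al 0 14080 352 :=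
  block_comb c218 b219 (Nat.zero_le _) (Nat.le_of_ble_eq_true rfl) rfl

theorem c220 : Block F al 0 14144 352 :=
  block_comb c219 b220 (Nat.zero_le _) (Nat.le_of_ble_eq_true rfl) rfl

theorem c221 : Block F al 0 14208 352 :=
  block_comb c220 b221 (Nat.zero_le _) (Nat.le_of_ble_eq_true rfl) rfl

theorem c222 : Block F al 0 14272 352 :=
  block_comb c221 b222 (Nat.zero_le _) (Nat.le_of_ble_eq_true rfl) rfl

theorem c223 : Block F al 0 14336 352 :=
  block_comb c222 b223 (Nat.zero_le _) (Nat.le_of_ble_eq_true rfl) rfl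

theorem c224 : Block F al 0 14400 352 :=
  block_comb c223 b224 (Nat.zero_le _) (Nat.le_of_ble_eq_true rfl) rfl

theorem c225 : Block F al 0 14464 352 :=
  block_comb c224 b225 (Nat.zero_le _) (Nat.le_of_ble_eq_true rfl) rfl

end Cfsg.Agent.TcData.HNH.R2
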